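import Groth.Agent.L13.LocPrincApprox.Model
import Groth.Agent.L13.ModPair.Product
import Groth.Agent.L05.DescendFP
import Groth.Agent.L19.Limit.Proper
import Groth.Agent.L19.Limit.Immersion
import Groth.Agent.S18744

/-! Admissible blow-ups descend along limits of modulus pairs. -/

set_option autoImplicit false
set_option linter.style.haveILetI false
set_option backward.isDefEq.respectTransparency false

universe u

open CategoryTheory CategoryTheory.Limits AlgebraicGeometry TopologicalSpace Opposite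

namespace Groth.L13.DescendBlowUp

open Groth.L22 Groth.L13.MP

theorem le_ker_of_dense {A B Z : Scheme.{u}} (a : A ⟶ Z) (b : B ⟶ Z) [IsClosedImmersion a]
    (K : Z.IdealSheafData) (hB : BlowUp.IsEffCartierIdeal (K.comap b))
    [IsIso (a ∣_ ModPair.interior K)] : a.ker ≤ b.ker := by
  let O := ModPair.interior K
  haveI := quasiCompact_interior hB
  haveI := dominant_interior hB
  have hW : ModPair.interior (K.comap b) = b ⁻¹ᵁ O := interior_comap K b
  have h1 : b.ker = ((ModPair.interior (K.comap b)).ι ≫ b).ker := by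
    rw [Scheme.Hom.ker_comp, (ModPair.interior (K.comap b)).ι.ker_eq_bot, Scheme.IdealSheafData.map_bot]
  have h2 : (b ⁻¹ᵁ O).ι ≫ b = ((b ∣_ O) ≫ inv (a ∣_ O) ≫ (a ⁻¹ᵁ O).ι) ≫ a := by
    simp only [Category.assoc]
    rw [← morphismRestrict_ι a O, IsIso.inv_hom_id_assoc, morphismRestrict_ι]
  rw [h1, hW, h2]
  exact Scheme.Hom.le_ker_comp _ _

/-- two closed subschemes with dense common interior agree -/
theorem exists_iso_of_dense {A B Z : Scheme.{u}} (a : A ⟶ Z) (b : B ⟶ Z) [IsClosedImmersion a] [IsClosedImmersion b]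
    (K : Z.IdealSheafData) (hA : BlowUp.IsEffCartierIdeal (K.comap a)) (hB : BlowUp.IsEffCartierIdeal (K.comap b))
    [IsIso (a ∣_ ModPair.interior K)] [IsIso (b ∣_ ModPair.interior K)] :
    ∃ e : A ≅ B, e.hom ≫ b = a := by
  have h1 := le_ker_of_dense b a K hA
  have h2 := le_ker_of_dense a b K hB
  refine ⟨⟨IsClosedImmersion.lift b a h1, IsClosedImmersion.lift a b h2, ?_, ?_⟩, IsClosedImmersion.lift_fac _ _ _⟩
  · rw [← cancel_mono a, Category.assoc, IsClosedImmersion.lift_fac, IsClosedImmersion.lift_fac, Category.id_comp]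
  · rw [← cancel_mono b, Category.assoc, IsClosedImmersion.lift_fac, IsClosedImmersion.lift_fac, Category.id_comp]

theorem isIso_restrict_left {X Y Z : Scheme.{u}} (f : X ⟶ Y) (g : Y ⟶ Z) (U : Z.Opens) [IsIso (g ∣_ U)]
    [IsIso ((f ≫ g) ∣_ U)] : IsIso (f ∣_ g ⁻¹ᵁ U) := by
  haveI : IsIso ((f ∣_ g ⁻¹ᵁ U) ≫ (g ∣_ U)) := by
    have h : IsIso ((f ≫ g) ∣_ U) := inferInstance
    rwa [morphismRestrict_comp] at h
  exact IsIso.of_isIso_comp_right _ (g ∣_ U)

variable {I : Type u} [SmallCategory I] [IsCofiltered I] (D : I ⥤ Scheme.{u}) (c : Cone D)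
  [∀ (i j : I) (t : i ⟶ j), IsAffineHom (D.map t)]
  [∀ i, CompactSpace (D.obj i)] [∀ i, QuasiSeparatedSpace (D.obj i)]

omit [∀ (i j : I) (t : i ⟶ j), IsAffineHom (D.map t)] [IsCofiltered I] in
/-- base change to a later stage -/
theorem isPullback_stage {Z : Scheme.{u}} {g : Z ⟶ c.pt} {i j : I} (φ : j ⟶ i) {Zi : Scheme.{u}} {fi : Zi ⟶ D.obj i}
    {gZ : Z ⟶ Zi} (h : IsPullback gZ g fi (c.π.app i)) :
    ∃ k : Z ⟶ pullback fi (D.map φ), IsPullback k g (pullback.snd fi (D.map φ)) (c.π.app j) := by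
  have hsq := IsPullback.of_hasPullback fi (D.map φ)
  let k := hsq.lift gZ (g ≫ c.π.app j) (by rw [Category.assoc, c.w, h.w])
  refine ⟨k, IsPullback.of_right (?_ : IsPullback (k ≫ pullback.fst fi (D.map φ)) g fi (c.π.app j ≫ D.map φ))
    (hsq.lift_snd _ _ _) hsq⟩
  rw [hsq.lift_fst, c.w]
  exact h

theorem exists_proper_stage (hc : IsLimit c) {Z : Scheme.{u}} (g : Z ⟶ c.pt) [IsProper g] {i : I}
    {Zi : Scheme.{u}} {fi : Zi ⟶ D.obj i} [LocallyOfFinitePresentation fi] [QuasiCompact fi] [QuasiSeparated fi]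
    {gZ : Z ⟶ Zi} (h : IsPullback gZ g fi (c.π.app i)) :
    ∃ (j : I) (φ : j ⟶ i), IsProper (pullback.snd fi (D.map φ)) := by
  haveI : ∀ {a b : I} (t : a ⟶ b), IsAffineHom (D.map t) := fun t => ‹∀ (i j : I) (t : i ⟶ j), IsAffineHom (D.map t)› _ _ t
  haveI : CompactSpace Zi := QuasiCompact.compactSpace_of_compactSpace fi
  haveI : QuasiSeparatedSpace Zi := quasiSeparatedSpace_of_quasiSeparated fi
  obtain ⟨j, hj⟩ := Groth.L19.Limit.exists_isProper (g₀ := 𝟙 (D.obj i)) (qY := c.π.app i) (g := 𝟙 c.pt) hc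
    (IsPullback.id_vert (c.π.app i)) h
  refine ⟨j.left, j.hom, ?_⟩
  have h1 : IsPullback (pullback.snd (D.map j.hom) (fi ≫ 𝟙 _))
      (Groth.L19.Limit.stageHom (D := D) fi (𝟙 _) j ≫ pullback.fst (D.map j.hom) (𝟙 _)) fi (D.map j.hom) := by
    have : Groth.L19.Limit.stageHom (D := D) fi (𝟙 _) j ≫ pullback.fst (D.map j.hom) (𝟙 _) =
        pullback.fst (D.map j.hom) (fi ≫ 𝟙 _) := (pullback.lift_fst _ _ _).trans (Category.comp_id _)
    rw [this]
    simpa using (IsPullback.of_hasPullback (D.map j.hom) (fi ≫ 𝟙 (D.obj i))).flip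
  have h2 : IsProper (Groth.L19.Limit.stageHom (D := D) fi (𝟙 _) j ≫ pullback.fst (D.map j.hom) (𝟙 _)) := by
    haveI := hj
    exact inferInstanceAs (IsProper (_ ≫ _))
  rw [← (IsPullback.of_hasPullback fi (D.map j.hom)).isoIsPullback_hom_snd _ _ h1]
  haveI := h2
  exact inferInstanceAs (IsProper (_ ≫ _))

theorem exists_iso_stage (hc : IsLimit c) {Z : Scheme.{u}} (g : Z ⟶ c.pt) {i : I} (U : (D.obj i).Opens)
    (hU : IsCompact (U : Set (D.obj i)))
    {Zi : Scheme.{u}} {fi : Zi ⟶ D.obj i} [LocallyOfFinitePresentation fi] [QuasiCompact fi] [QuasiSeparated fi]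
    {gZ : Z ⟶ Zi} (h : IsPullback gZ g fi (c.π.app i)) [IsIso (g ∣_ (c.π.app i ⁻¹ᵁ U))] :
    ∃ (j : I) (φ : j ⟶ i), IsIso (pullback.snd fi (D.map φ) ∣_ (D.map φ ⁻¹ᵁ U)) := by
  haveI : ∀ {a b : I} (t : a ⟶ b), IsAffineHom (D.map t) := fun t => ‹∀ (i j : I) (t : i ⟶ j), IsAffineHom (D.map t)› _ _ t
  haveI : CompactSpace U.toScheme := isCompact_iff_compactSpace.1 hU
  let Q : MorphismProperty Scheme.{u} := Groth.L19.Limit.qcqsfp
  let V := c.π.app i ⁻¹ᵁ U
  have hY : IsPullback (c.π.app i ∣_ U) V.ι U.ι (c.π.app i) := isPullback_morphismRestrict _ U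
  have hX : IsPullback (g ⁻¹ᵁ V).ι (g ∣_ V) g V.ι := (isPullback_morphismRestrict g V).flip
  have hQ : Groth.L19.Limit.qcqsfp fi := ⟨⟨inferInstance, inferInstance⟩, inferInstance⟩
  -- the square over `U`
  have hbig : IsPullback ((g ⁻¹ᵁ V).ι ≫ gZ) (g ∣_ V) fi ((c.π.app i ∣_ U) ≫ U.ι) := by
    rw [morphismRestrict_ι]
    exact hX.paste_horiz h
  have hsnd := IsPullback.of_hasPullback fi U.ι
  let l := hsnd.lift ((g ⁻¹ᵁ V).ι ≫ gZ) ((g ∣_ V) ≫ (c.π.app i ∣_ U)) (by rw [hbig.w]; simp)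
  have hsq : IsPullback l (g ∣_ V) (pullback.snd fi U.ι) (c.π.app i ∣_ U) :=
    IsPullback.of_right (by rw [hsnd.lift_fst]; exact hbig) (hsnd.lift_snd _ _ _) hsnd
  have hQ' : Groth.L19.Limit.qcqsfp (pullback.snd fi U.ι) := MorphismProperty.pullback_snd _ _ hQ
  obtain ⟨j, φ, hj⟩ := Groth.L19.Limit.descends_isIso.exists_pb hc (pullback.snd fi U.ι) U.ι hQ' hY
    ((Groth.L19.Limit.pb_iff_of_isPullback (P := MorphismProperty.isomorphisms Scheme.{u}) hsq).1
      (inferInstanceAs (IsIso (g ∣_ V))))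
  refine ⟨j, φ, ?_⟩
  have h1 := (isPullback_morphismRestrict (pullback.snd fi (D.map φ)) (D.map φ ⁻¹ᵁ U)).flip.paste_horiz
    (IsPullback.of_hasPullback fi (D.map φ))
  rw [← morphismRestrict_ι (D.map φ) U] at h1
  let m := hsnd.lift ((pullback.snd fi (D.map φ) ⁻¹ᵁ (D.map φ ⁻¹ᵁ U)).ι ≫ pullback.fst fi (D.map φ))
    ((pullback.snd fi (D.map φ) ∣_ (D.map φ ⁻¹ᵁ U)) ≫ (D.map φ ∣_ U)) (by rw [h1.w]; simp)
  have hm : IsPullback m (pullback.snd fi (D.map φ) ∣_ (D.map φ ⁻¹ᵁ U)) (pullback.snd fi U.ι) (D.map φ ∣_ U) :=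
    IsPullback.of_right (by rw [hsnd.lift_fst]; exact h1) (hsnd.lift_snd _ _ _) hsnd
  refine (Groth.L19.Limit.pb_iff_of_isPullback (P := MorphismProperty.isomorphisms Scheme.{u}) hm).2 ?_
  rw [← (isPullback_morphismRestrict (D.map φ) U).flip.isoPullback_hom_snd]
  exact Groth.L19.Limit.pb_comp _ hj

omit [IsCofiltered I] [∀ (i j : I) (t : i ⟶ j), IsAffineHom (D.map t)] [∀ i, QuasiSeparatedSpace (D.obj i)]
  [∀ i, CompactSpace (D.obj i)] in
/-- base change keeps being an isomorphism over an open -/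
theorem isIso_restrict_pullback {S T Z : Scheme.{u}} (f : Z ⟶ S) (g : T ⟶ S) (U : S.Opens) [IsIso (f ∣_ U)] :
    IsIso (pullback.snd f g ∣_ (g ⁻¹ᵁ U)) := MP.isIso_snd_restrict f g U _ le_rfl

theorem exists_descend_admBlowup (hc : IsLimit c) (J : ∀ i, (D.obj i).IdealSheafData)
    (hJ : ∀ i, BlowUp.IsEffCartierIdeal (J i))
    (hmin : ∀ (i j : I) (t : i ⟶ j), ModPair.IsMinimal (J i) (J j) (D.map t))
    (IX : c.pt.IdealSheafData) (hIX : ∀ i, IX = (J i).comap (c.π.app i))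
    {Y : Scheme.{u}} (s : Y ⟶ c.pt) (hY : BlowUp.IsEffCartierIdeal (IX.comap s))
    (hs : ModPair.IsAdmBlowup (IX.comap s) IX s) :
    ∃ (i : I) (Yi : Scheme.{u}) (IYi : Yi.IdealSheafData) (si : Yi ⟶ D.obj i),
      BlowUp.IsEffCartierIdeal IYi ∧ ModPair.IsAdmBlowup IYi (J i) si ∧
        ∃ e : Y ≅ ModPair.mprod (c.π.app i) si IX IYi,
          e.hom ≫ ModPair.mprodι (c.π.app i) si IX IYi ≫ pullback.fst (c.π.app i) si = s := by
  haveI hIi : ∀ {a b : I} (t : a ⟶ b), IsAffineHom (D.map t) := fun t => ‹∀ (i j : I) (t : i ⟶ j), IsAffineHom (D.map t)› _ _ t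
  obtain ⟨i₀⟩ := IsCofiltered.nonempty (C := I)
  haveI haff := isAffineHom_π_app D c hc i₀
  haveI : CompactSpace c.pt := QuasiCompact.compactSpace_of_compactSpace (c.π.app i₀)
  haveI : QuasiSeparatedSpace c.pt := quasiSeparatedSpace_of_quasiSeparated (c.π.app i₀)
  obtain ⟨-, hproper, hiso⟩ := hs
  haveI := hproper
  haveI := hiso
  let U := ModPair.interior IX
  have hUpre : ∀ i, c.π.app i ⁻¹ᵁ ModPair.interior (J i) = U := fun i => by
    show _ = ModPair.interior IX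
    rw [hIX i, interior_comap]
  have hUc : ∀ i, IsCompact (ModPair.interior (J i) : Set (D.obj i)) := fun i => by
    haveI := quasiCompact_interior (hJ i)
    have h : CompactSpace (ModPair.interior (J i)).toScheme :=
      QuasiCompact.compactSpace_of_compactSpace (ModPair.interior (J i)).ι
    exact isCompact_iff_compactSpace.2 h
  haveI : CompactSpace Y := QuasiCompact.compactSpace_of_compactSpace s
  haveI : QuasiSeparatedSpace Y := quasiSeparatedSpace_of_quasiSeparated s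
  obtain ⟨M₀⟩ := LPApprox.exists_model (f := s)
  obtain ⟨M₁, hM₁⟩ := LPApprox.exists_model_proper M₀
  haveI := hM₁
  have hc1 : IsCompact (M₁.g ⁻¹ᵁ U : Set M₁.Z) := by
    refine M₁.g.isCompact_preimage ?_
    show IsCompact (U : Set c.pt)
    rw [← hUpre i₀]
    exact (c.π.app i₀).isCompact_preimage (hUc i₀)
  obtain ⟨K, hK, hKfg, hKiso⟩ := LPApprox.exists_model_iso M₁ U hc1
  let M := M₁.shrink K hK hKfg
  haveI : IsProper M.g := inferInstanceAs (IsProper (K.subschemeι ≫ M₁.g))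
  haveI : IsIso (M.g ∣_ U) := hKiso
  obtain ⟨i₁, Z₁, f₁, g₁, hf₁, hq₁, hqs₁, hsq₁⟩ := Groth.L05.DescendFP.exists_stage hc M.g
  haveI := hf₁
  haveI := hq₁
  haveI := hqs₁
  obtain ⟨i₂, φ₂, hp₂⟩ := exists_proper_stage D c hc M.g hsq₁
  obtain ⟨g₂, hsq₂⟩ := isPullback_stage D c φ₂ hsq₁
  haveI := hp₂
  haveI : IsIso (M.g ∣_ (c.π.app i₂ ⁻¹ᵁ ModPair.interior (J i₂))) := by rw [hUpre i₂]; exact hKiso
  obtain ⟨i, φ, hiI⟩ := exists_iso_stage D c hc M.g (ModPair.interior (J i₂)) (hUc i₂) hsq₂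
  obtain ⟨gZ, hsq⟩ := isPullback_stage D c φ hsq₂
  let fi := pullback.snd (pullback.snd f₁ (D.map φ₂)) (D.map φ)
  haveI : IsProper fi := inferInstance
  haveI : IsIso (fi ∣_ ModPair.interior (J i)) := by
    rw [minimal_interior (hmin i i₂ φ)]; exact hiI
  -- the closure of the interior at the stage
  let Wi := fi ⁻¹ᵁ ModPair.interior (J i)
  haveI : QuasiCompact Wi.ι := quasiCompact_preimage fi (quasiCompact_interior (hJ i))
  let jY := Wi.ι.imageι
  let si : Wi.ι.image ⟶ D.obj i := jY ≫ fi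
  let IYi := (J i).comap si
  have hIYi : BlowUp.IsEffCartierIdeal IYi := by
    haveI := dominant_preimage_image Wi
    haveI : QuasiCompact (jY ⁻¹ᵁ Wi).ι := quasiCompact_preimage jY inferInstance
    exact isEffCartier_comap si (hJ i) (W := jY ⁻¹ᵁ Wi) le_rfl
  haveI hji : IsIso (jY ∣_ Wi) := isIso_imageι_restrict Wi
  have hsiI : IsIso (si ∣_ ModPair.interior (J i)) := by
    show IsIso ((jY ≫ fi) ∣_ _)
    rw [morphismRestrict_comp]
    exact IsIso.comp_isIso' hji inferInstance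
  refine ⟨i, _, IYi, si, hIYi, ⟨rfl, inferInstanceAs (IsProper (jY ≫ fi)), hsiI⟩, ?_⟩
  haveI := hsiI
  let π := c.π.app i
  -- the closed immersion of the product in the model
  let b₀ : pullback π si ⟶ M.Z :=
    hsq.lift (pullback.snd π si ≫ jY) (pullback.fst π si) (by rw [Category.assoc]; exact pullback.condition.symm)
  have hb₀g : b₀ ≫ M.g = pullback.fst π si := hsq.lift_snd _ _ _
  have hb₀Z : b₀ ≫ gZ = pullback.snd π si ≫ jY := hsq.lift_fst _ _ _
  haveI : IsClosedImmersion b₀ := by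
    have h1 : IsPullback (pullback.snd π si) b₀ jY gZ := by
      refine IsPullback.of_bot ?_ hb₀Z.symm hsq
      rw [hb₀g]
      exact (IsPullback.of_hasPullback π si).flip
    exact MorphismProperty.of_isPullback h1 (inferInstanceAs (IsClosedImmersion jY))
  let b := ModPair.mprodι π si IX IYi ≫ b₀
  have hbg : b ≫ M.g = ModPair.mprodι π si IX IYi ≫ pullback.fst π si := by rw [Category.assoc, hb₀g]
  have hprod : ModPair.prodInterior π si IX IYi = pullback.fst π si ⁻¹ᵁ U := by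
    refine le_antisymm inf_le_left (le_inf le_rfl ?_)
    intro x hx
    show pullback.snd π si x ∈ ModPair.interior IYi
    rw [interior_comap]
    show (pullback.snd π si ≫ si) x ∈ ModPair.interior (J i)
    rw [← pullback.condition]
    show pullback.fst π si x ∈ π ⁻¹ᵁ ModPair.interior (J i)
    rw [hUpre i]
    exact hx
  have hfst : IsIso (pullback.fst π si ∣_ U) := by
    rw [← pullbackSymmetry_hom_comp_snd π si, morphismRestrict_comp]
    haveI := isIso_restrict_pullback si π (ModPair.interior (J i))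
    exact IsIso.comp_isIso' inferInstance (hUpre i ▸ ‹IsIso (pullback.snd si π ∣_ (π ⁻¹ᵁ ModPair.interior (J i)))›)
  have hpr : IsIso ((b ≫ M.g) ∣_ U) := by
    have h1 : IsIso (ModPair.mprodι π si IX IYi ∣_ (pullback.fst π si ⁻¹ᵁ U)) := by
      rw [← hprod]
      exact isIso_imageι_restrict (ModPair.prodInterior π si IX IYi)
    rw [hbg, morphismRestrict_comp]
    exact IsIso.comp_isIso' h1 hfst
  haveI := hpr
  haveI : IsIso ((M.j ≫ M.g) ∣_ U) := by rw [M.fac]; exact hiso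
  have hint : ModPair.interior (IX.comap M.g) = M.g ⁻¹ᵁ U := interior_comap IX M.g
  haveI : IsIso (M.j ∣_ ModPair.interior (IX.comap M.g)) := by
    rw [hint]; exact isIso_restrict_left M.j M.g U
  haveI : IsIso (b ∣_ ModPair.interior (IX.comap M.g)) := by
    rw [hint]; exact isIso_restrict_left b M.g U
  obtain ⟨e, he⟩ := exists_iso_of_dense M.j b (IX.comap M.g)
    (by rw [← Scheme.IdealSheafData.comap_comp, M.fac]; exact hY)
    (by
      rw [← Scheme.IdealSheafData.comap_comp, hbg]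
      exact isEffCartier_fst π si (IX := IX) (IT := IYi)
        ((hIX i).symm ▸ Groth.Agent.S18744.result D c hc J hJ hmin i) hIYi)
  refine ⟨e, ?_⟩
  rw [← hbg, reassoc_of% he]
  exact M.fac

end Groth.L13.DescendBlowUp
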